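import Cfsg.Prelude.Def_Characters
import Cfsg.Agent.Characters.Core
import Cfsg.Agent.H167.SteinbergRGD
import Cfsg.Agent.S0188

/-!
# Groups with a Steinberg character (helper167)

`HasSt p G` : `G` has an irreducible character of degree the `p`-part of `|G|` vanishing on the nontrivial
`p`-elements. Root group data, direct products, inflation along a `p'`-kernel, `p'`-groups.
-/

set_option autoImplicit false

namespace Cfsg.Agent.H167.StChar

open Cfsg

/-- `G` has an irreducible character of degree the `p`-part of the order, vanishing on the nontrivial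
`p`-elements. -/
def HasSt (p : ℕ) (G : Type*) [Group G] : Prop :=
  ∃ χ : G → ℂ, IsIrrCharacter G χ ∧ χ 1 = ((p ^ (Nat.card G).factorization p : ℕ) : ℂ) ∧
    ∀ x : G, (∃ k : ℕ, x ^ p ^ k = 1) → x ≠ 1 → χ x = 0

theorem hasSt_iff {p : ℕ} [hp : Fact p.Prime] {G : Type*} [Group G] [Finite G] : HasSt p G ↔
    ∃ χ : G → ℂ, IsIrrCharacter G χ ∧ ∀ P : Sylow p G, χ 1 = Nat.card P ∧ ∀ x : G, x ∈ P → x ≠ 1 → χ x = 0 := by
  constructor
  · rintro ⟨χ, hχ, h1, h2⟩
    refine ⟨χ, hχ, fun P => ⟨?_, fun x hx hx1 => ?_⟩⟩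
    · rw [h1, P.card_eq_multiplicity]
    · refine h2 x ?_ hx1
      obtain ⟨k, hk⟩ := P.isPGroup' ⟨x, hx⟩
      exact ⟨k, by simpa using congrArg Subtype.val hk⟩
  · rintro ⟨χ, hχ, h⟩
    have P0 : Sylow p G := default
    refine ⟨χ, hχ, ?_, ?_⟩
    · rw [(h P0).1, P0.card_eq_multiplicity]
    · rintro x ⟨k, hk⟩ hx1
      have h1 : IsPGroup p (Subgroup.zpowers x) := by
        rintro ⟨y, hy⟩
        obtain ⟨m, rfl⟩ := Subgroup.mem_zpowers_iff.1 hy
        refine ⟨k, Subtype.ext ?_⟩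
        show (x ^ m) ^ p ^ k = 1
        rw [← zpow_natCast, ← zpow_mul, mul_comm, zpow_mul, zpow_natCast, hk, one_zpow]
      obtain ⟨P, hP⟩ := h1.exists_le_sylow
      exact (h P).2 x (hP (Subgroup.mem_zpowers x)) hx1

theorem HasSt.of_hasRGD {p : ℕ} [Fact p.Prime] {G : Type*} [Group G] [Finite G]
    (hG : Nodes.RGDChev.HasRGD p G) : HasSt p G :=
  hasSt_iff.2 (SteinbergRGD.steinberg_of_hasRGD hG)

/-- Inflation along a surjective homomorphism with kernel of order prime to `p`. -/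
theorem HasSt.of_surjective {p : ℕ} [hp : Fact p.Prime] {G H : Type*} [Group G] [Group H] [Finite G] (f : G →* H)
    (hf : Function.Surjective f) (hker : ¬ p ∣ Nat.card f.ker) (hH : HasSt p H) : HasSt p G := by
  obtain ⟨χ, hχ, h1, h2⟩ := hH
  refine ⟨χ ∘ f, Characters.Core.isIrr_comp f hf hχ, ?_, ?_⟩
  · have hcard : Nat.card G = Nat.card H * Nat.card f.ker := by
      rw [← Nat.card_congr (QuotientGroup.quotientKerEquivOfSurjective f hf).toEquiv]
      exact f.ker.card_eq_card_quotient_mul_card_subgroup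
    have hH0 : Nat.card H ≠ 0 := by
      have : Finite H := Finite.of_surjective f hf
      exact Nat.card_pos.ne'
    have hk0 : Nat.card f.ker ≠ 0 := Nat.card_pos.ne'
    show χ (f 1) = _
    rw [map_one, h1, hcard, Nat.factorization_mul hH0 hk0, Finsupp.add_apply,
      Nat.factorization_eq_zero_of_not_dvd hker, add_zero]
  · rintro x ⟨k, hk⟩ hx1
    refine h2 (f x) ⟨k, by rw [← map_pow, hk, map_one]⟩ ?_
    intro hfx
    -- `x` is a `p`-element of the kernel
    apply hx1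
    have h3 : orderOf x ∣ p ^ k := orderOf_dvd_of_pow_eq_one hk
    obtain ⟨j, -, hj⟩ := (Nat.dvd_prime_pow hp.1).1 h3
    have h4 : orderOf x ∣ Nat.card f.ker := by
      have h5 := orderOf_dvd_natCard (⟨x, hfx⟩ : f.ker)
      have h6 := Subgroup.orderOf_coe (⟨x, hfx⟩ : f.ker)
      rw [← h6] at h5
      exact h5
    rcases Nat.eq_zero_or_pos j with hj0 | hj0
    · rw [hj0, pow_zero, orderOf_eq_one_iff] at hj
      exact hj
    · exfalso
      apply hker
      rw [hj] at h4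
      exact (dvd_pow_self p hj0.ne').trans h4

theorem HasSt.of_equiv {p : ℕ} {G H : Type*} [Group G] [Group H] (e : G ≃* H) (hH : HasSt p H) : HasSt p G := by
  obtain ⟨χ, hχ, h1, h2⟩ := hH
  refine ⟨χ ∘ e, Characters.Core.isIrr_comp e.toMonoidHom e.surjective hχ, ?_, ?_⟩
  · show χ (e 1) = _
    rw [map_one, h1, Nat.card_congr e.toEquiv]
  · rintro x ⟨k, hk⟩ hx1
    exact h2 (e x) ⟨k, by rw [← map_pow, hk, map_one]⟩ (fun h => hx1 (e.injective (by rw [h, map_one])))

/-- A group of order prime to `p`. -/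
theorem HasSt.of_not_dvd {p : ℕ} [hp : Fact p.Prime] {G : Type*} [Group G] [Finite G] (h : ¬ p ∣ Nat.card G) :
    HasSt p G := by
  refine ⟨1, Characters.Core.isIrr_one, ?_, ?_⟩
  · rw [Nat.factorization_eq_zero_of_not_dvd h, pow_zero, Nat.cast_one]
    rfl
  · rintro x ⟨k, hk⟩ hx1
    exfalso
    apply hx1
    obtain ⟨j, -, hj⟩ := (Nat.dvd_prime_pow hp.1).1 (orderOf_dvd_of_pow_eq_one hk)
    rcases Nat.eq_zero_or_pos j with hj0 | hj0
    · rw [hj0, pow_zero, orderOf_eq_one_iff] at hj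
      exact hj
    · exfalso
      apply h
      have h4 := orderOf_dvd_natCard x
      rw [hj] at h4
      exact (dvd_pow_self p hj0.ne').trans h4

/-- Direct products. -/
theorem HasSt.prod {p : ℕ} {G H : Type*} [Group G] [Group H] [Finite G] [Finite H] (hG : HasSt p G)
    (hH : HasSt p H) : HasSt p (G × H) := by
  obtain ⟨χ, hχ, h1, h2⟩ := hG
  obtain ⟨ψ, hψ, h3, h4⟩ := hH
  refine ⟨fun x => χ x.1 * ψ x.2, Cfsg.Agent.S0188.isIrr_outer hχ hψ, ?_, ?_⟩
  · show χ 1 * ψ 1 = _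
    rw [h1, h3, Nat.card_prod, Nat.factorization_mul Nat.card_pos.ne' Nat.card_pos.ne', Finsupp.add_apply,
      pow_add, Nat.cast_mul]
  · rintro ⟨x, y⟩ ⟨k, hk⟩ hxy
    have hx : x ^ p ^ k = 1 := congrArg Prod.fst hk
    have hy : y ^ p ^ k = 1 := congrArg Prod.snd hk
    show χ x * ψ y = 0
    by_cases hx1 : x = 1
    · have hy1 : y ≠ 1 := fun h => hxy (by rw [hx1, h]; rfl)
      rw [h4 y ⟨k, hy⟩ hy1, mul_zero]
    · rw [h2 x ⟨k, hx⟩ hx1, zero_mul]

end Cfsg.Agent.H167.StChar
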