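import Cfsg.Agent.H167.AltBldg
import Cfsg.Agent.H167.SteinbergRGD

/-!
# The alternating sum formula for the Steinberg character of a group with a root group datum (helper167)

* `card_opp_fixed` : the number of chambers opposite to the standard one fixed by `b ∈ B`;
* `mem_parabolic_iff` : `⟨B, n_i (i ∈ K)⟩` is the stabiliser of the `K`-residue of the standard chamber;
* `exists_char_alt` : **the alternating sum** `∑ K, (-1) ^ |K| * 1_{P_K}^G` is an irreducible character with the value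
  `#{u ∈ U | u⁻¹ b u ∈ T}` at `b ∈ B`.
-/

set_option autoImplicit false
set_option linter.unusedSectionVars false

namespace Cfsg.Agent.H167.AltRGD

open Cfsg CoxeterSystem Cfsg.Agent.ChevalleyStructure.CoxeterGeom Cfsg.Agent.Tits.Roots Cfsg.Agent.Tits.Core
  Cfsg.Agent.Tits.Exchange Cfsg.Agent.Tits.OfBN Cfsg.Agent.LieExceptional.BNPairCore
  Cfsg.Agent.Nodes.Reps Cfsg.Agent.Nodes.BNOf Cfsg.Agent.Nodes.OppDec Cfsg.Agent.H167.SteinbergMod
  Cfsg.Agent.H167.SteinbergRGD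

variable {I W Y : Type*} [Fintype I] [DecidableEq I] [Group W] [Group Y] {M : CoxeterMatrix I}
  {cs : CoxeterSystem M W} {A : I → I → ℤ} {h : IsCartan M A} {p : ℕ} {T : Subgroup Y} {n : I → Y}
  {X : (I → ℤ) → Subgroup Y}

/-- The chambers opposite to the standard chamber are the `u k₀ B`, `u ∈ U`. -/
theorem opp_iff [Finite W] (R : RGD cs h p T n X) (Δ : Bldg cs (Y ⧸ RGD.B cs h T X))
    (hδ : ∀ (a b k : Y) (w : W), Rp cs R.nsys w k → (Δ.δ (QuotientGroup.mk a) (QuotientGroup.mk b) = w ↔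
        ∃ b₁ ∈ RGD.B cs h T X, ∃ b₂ ∈ RGD.B cs h T X, a⁻¹ * b = b₁ * k * b₂))
    {k0 : Y} (hk0 : Rp cs R.nsys (w0 cs) k0) (g : Y) :
    Δ.Opp (QuotientGroup.mk 1) (QuotientGroup.mk g) ↔
      ∃ u : RGD.Sup X (RGD.Pos cs h), (QuotientGroup.mk g : Y ⧸ RGD.B cs h T X) =
        QuotientGroup.mk ((u : Y) * k0) := by
  have hUB : RGD.Sup X (RGD.Pos cs h) ≤ RGD.B cs h T X := RGD.U_le_B
  unfold Bldg.Opp
  rw [hδ _ _ _ _ hk0]
  constructor
  · rintro ⟨b₁, hb₁, b₂, hb₂, e⟩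
    obtain ⟨t, ht, u, hu, e'⟩ := R.mem_B.1 (inv_mem hb₁)
    have h1 : b₁ = u⁻¹ * t⁻¹ := by rw [← inv_inv b₁, e']; group
    refine ⟨⟨u⁻¹, inv_mem hu⟩, ?_⟩
    rw [eq_comm, QuotientGroup.eq]
    have h2 : (u⁻¹ * k0)⁻¹ * g = (k0⁻¹ * t⁻¹ * k0) * b₂ := by
      have h3 : g = b₁ * k0 * b₂ := by rw [← e]; group
      rw [h3, h1]; group
    rw [h2]
    refine mul_mem (RGD.T_le_B ?_) hb₂
    have h4 := (Subgroup.mem_normalizer_iff.1 hk0.inv.mem_normalizer t⁻¹).1 (inv_mem ht)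
    rwa [inv_inv] at h4
  · rintro ⟨u, hu⟩
    rw [eq_comm, QuotientGroup.eq] at hu
    refine ⟨u, hUB u.2, _, hu, ?_⟩
    group

theorem mk_inj [Finite W] (R : RGD cs h p T n X) {k0 : Y} (hk0 : Rp cs R.nsys (w0 cs) k0)
    (u u' : RGD.Sup X (RGD.Pos cs h)) (he : (QuotientGroup.mk ((u : Y) * k0) : Y ⧸ RGD.B cs h T X) =
      QuotientGroup.mk ((u' : Y) * k0)) : u = u' := by
  rw [QuotientGroup.eq] at he
  have h1 : ((u : Y) * k0)⁻¹ * ((u' : Y) * k0) = k0⁻¹ * ((u : Y)⁻¹ * u') * k0 := by group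
  rw [h1, ← mem_cj, cj_B R hk0] at he
  have h2 := eq_one_of_mem_U_of_mem_BN R (mul_mem (inv_mem u.2) u'.2) he
  exact Subtype.ext (inv_mul_eq_one.1 h2)

/-- The number of chambers opposite to the standard chamber which are fixed by an element of `B`. -/
theorem card_opp_fixed [Finite W] (R : RGD cs h p T n X) (Δ : Bldg cs (Y ⧸ RGD.B cs h T X))
    (hδ : ∀ (a b k : Y) (w : W), Rp cs R.nsys w k → (Δ.δ (QuotientGroup.mk a) (QuotientGroup.mk b) = w ↔
        ∃ b₁ ∈ RGD.B cs h T X, ∃ b₂ ∈ RGD.B cs h T X, a⁻¹ * b = b₁ * k * b₂))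
    {b : Y} (hb : b ∈ RGD.B cs h T X) :
    Nat.card {y : Y ⧸ RGD.B cs h T X // Δ.Opp (QuotientGroup.mk 1) y ∧ b • y = y} =
      Nat.card {u : RGD.Sup X (RGD.Pos cs h) // (u : Y)⁻¹ * b * u ∈ T} := by
  obtain ⟨k0, hk0⟩ := exists_rp cs R.nsys (w0 cs)
  set U := RGD.Sup X (RGD.Pos cs h) with hU
  have hUB : U ≤ RGD.B cs h T X := RGD.U_le_B
  have hopp := opp_iff R Δ hδ hk0
  have hinj : ∀ (b : Y) (u : U), b ∈ RGD.B cs h T X → ((QuotientGroup.mk (b * ((u : Y) * k0)) : Y ⧸ RGD.B cs h T X) =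
      QuotientGroup.mk ((u : Y) * k0) ↔ (u : Y)⁻¹ * b * u ∈ T) := by
    intro b u hb
    rw [eq_comm, QuotientGroup.eq]
    have h1 : ((u : Y) * k0)⁻¹ * (b * ((u : Y) * k0)) = k0⁻¹ * ((u : Y)⁻¹ * b * u) * k0 := by group
    rw [h1, ← mem_cj, cj_B R hk0]
    have h2 : (u : Y)⁻¹ * b * u ∈ RGD.B cs h T X := mul_mem (mul_mem (inv_mem (hUB u.2)) hb) (hUB u.2)
    constructor
    · intro h3
      rw [← B_inf_BN R]
      exact ⟨h2, h3⟩
    · intro h3
      exact T_le_BN h3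
  symm
  refine Nat.card_congr (Equiv.ofBijective (fun u : {u : U // (u : Y)⁻¹ * b * u ∈ T} =>
    (⟨QuotientGroup.mk ((u.1 : Y) * k0), (hopp _).2 ⟨u.1, rfl⟩, (hinj b u.1 hb).2 u.2⟩ :
      {y : Y ⧸ RGD.B cs h T X // Δ.Opp (QuotientGroup.mk 1) y ∧ b • y = y})) ⟨?_, ?_⟩)
  · intro u u' he
    exact Subtype.ext (mk_inj R hk0 _ _ (congrArg Subtype.val he))
  · rintro ⟨y, hy1, hy2⟩
    induction y using QuotientGroup.induction_on with
    | _ g =>
    obtain ⟨u, hu⟩ := (hopp g).1 hy1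
    refine ⟨⟨u, (hinj b u hb).1 ?_⟩, Subtype.ext hu.symm⟩
    rw [hu] at hy2
    exact hy2

/-- the product of the `n i` over a word in `K` -/
theorem exists_rp_word {hN : NSys M T n} {K : Set I} {w : W} (hw : w ∈ WJ cs K) :
    ∃ k ∈ Subgroup.closure (n '' K), Rp cs hN w k := by
  obtain ⟨ω, hω, rfl⟩ := exists_word_of_mem_WJ cs hw
  clear hw
  induction ω with
  | nil => exact ⟨1, one_mem _, by rw [wordProd_nil]; exact rp_one⟩
  | cons i ω ih =>
    obtain ⟨g, hg, hr⟩ := ih (fun j hj => hω j (List.mem_cons_of_mem _ hj))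
    refine ⟨n i * g, mul_mem (Subgroup.subset_closure ⟨i, hω i List.mem_cons_self, rfl⟩) hg, ?_⟩
    rw [wordProd_cons]
    exact (rp_simple cs hN i).mul hr

/-- `⟨B, n_i (i ∈ K)⟩` is the stabiliser of the `K`-residue of the standard chamber. -/
theorem mem_parabolic_iff [Finite W] (R : RGD cs h p T n X) (Δ : Bldg cs (Y ⧸ RGD.B cs h T X))
    (hiso : ∀ (g : Y) (x y : Y ⧸ RGD.B cs h T X), Δ.δ (g • x) (g • y) = Δ.δ x y)
    (hδ : ∀ (a b k : Y) (w : W), Rp cs R.nsys w k → (Δ.δ (QuotientGroup.mk a) (QuotientGroup.mk b) = w ↔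
        ∃ b₁ ∈ RGD.B cs h T X, ∃ b₂ ∈ RGD.B cs h T X, a⁻¹ * b = b₁ * k * b₂))
    (K : Set I) (g : Y) :
    g ∈ RGD.B cs h T X ⊔ Subgroup.closure (n '' K) ↔
      Δ.δ (QuotientGroup.mk 1) (g • QuotientGroup.mk 1) ∈ WJ cs K := by
  set c : Y ⧸ RGD.B cs h T X := QuotientGroup.mk 1 with hc
  constructor
  · intro hg
    -- the stabiliser of the residue
    let Q : Subgroup Y :=
      { carrier := {g | Δ.δ c (g • c) ∈ WJ cs K}
        mul_mem' := by
          intro a b ha hb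
          have h1 : Δ.δ (a • c) ((a * b) • c) ∈ WJ cs K := by
            rw [mul_smul, hiso]
            exact hb
          exact Δ.mem_Res_trans ha h1
        one_mem' := by
          show Δ.δ c ((1 : Y) • c) ∈ WJ cs K
          rw [one_smul]
          exact Δ.self_mem_Res _ _
        inv_mem' := by
          intro a ha
          have h1 : Δ.δ (a • c) c ∈ WJ cs K := Δ.mem_Res_symm ha
          rw [← hiso a⁻¹, inv_smul_smul] at h1
          exact h1 }
    have hB : RGD.B cs h T X ≤ Q := by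
      intro b hb
      show Δ.δ c (b • c) ∈ WJ cs K
      have h1 : b • c = c := by
        show (QuotientGroup.mk (b * 1) : Y ⧸ RGD.B cs h T X) = QuotientGroup.mk 1
        rw [eq_comm, QuotientGroup.eq]
        simpa using hb
      rw [h1]
      exact Δ.self_mem_Res _ _
    have hn : Subgroup.closure (n '' K) ≤ Q := by
      rw [Subgroup.closure_le]
      rintro _ ⟨i, hi, rfl⟩
      show Δ.δ c (n i • c) ∈ WJ cs K
      have h1 : Δ.δ c (n i • c) = cs.simple i := by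
        show Δ.δ (QuotientGroup.mk 1) (QuotientGroup.mk (n i * 1)) = cs.simple i
        rw [hδ _ _ _ _ (rp_simple cs R.nsys i)]
        exact ⟨1, one_mem _, 1, one_mem _, by group⟩
      rw [h1]
      exact simple_mem_WJ cs hi
    exact (sup_le hB hn) hg
  · intro hg
    obtain ⟨k, hk, hr⟩ := exists_rp_word (hN := R.nsys) hg
    have h1 := (hδ 1 (g * 1) k _ hr).1 rfl
    obtain ⟨b₁, hb₁, b₂, hb₂, e⟩ := h1
    have h2 : g = b₁ * k * b₂ := by rw [← e]; group
    rw [h2]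
    exact mul_mem (mul_mem (Subgroup.mem_sup_left hb₁) (Subgroup.mem_sup_right hk)) (Subgroup.mem_sup_left hb₂)

/-- **The Steinberg character as an alternating sum** for a finite group with a root group datum. -/
theorem exists_char_alt [Finite W] [Finite Y] (R : RGD cs h p T n X)
    (hgen : RGD.B cs h T X ⊔ NN cs R.nsys = ⊤) :
    IsIrrCharacter Y (fun g => ∑ K ∈ (Finset.univ : Finset I).powerset, (-1 : ℂ) ^ K.card *
      fixedPointCharacter (RGD.B cs h T X ⊔ Subgroup.closure (n '' (K : Set I))) g) ∧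
    ∀ b ∈ RGD.B cs h T X, (∑ K ∈ (Finset.univ : Finset I).powerset, (-1 : ℂ) ^ K.card *
      fixedPointCharacter (RGD.B cs h T X ⊔ Subgroup.closure (n '' (K : Set I))) b) =
        (Nat.card {u : RGD.Sup X (RGD.Pos cs h) // (u : Y)⁻¹ * b * u ∈ T} : ℂ) := by
  obtain ⟨Δ, hiso, htr, hδ⟩ := exists_bldg R hgen
  have : Fintype (Y ⧸ RGD.B cs h T X) := Fintype.ofFinite _
  choose k hk using fun w : W => exists_rp cs R.nsys w
  have ha : ∀ v w, Δ.δ (QuotientGroup.mk (k v)) (QuotientGroup.mk (k w)) = v⁻¹ * w := by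
    intro v w
    rw [hδ _ _ _ _ ((hk v).inv.mul (hk w))]
    exact ⟨1, one_mem _, 1, one_mem _, by group⟩
  obtain ⟨h1, h2⟩ := AltBldg.exists_char_alt Δ hiso htr (fun w => QuotientGroup.mk (k w)) ha (QuotientGroup.mk 1)
    (fun K => RGD.B cs h T X ⊔ Subgroup.closure (n '' (K : Set I)))
    (fun K g => mem_parabolic_iff R Δ hiso hδ (K : Set I) g)
  refine ⟨h1, fun b hb => ?_⟩
  have hfix : b • (QuotientGroup.mk 1 : Y ⧸ RGD.B cs h T X) = QuotientGroup.mk 1 := by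
    show (QuotientGroup.mk (b * 1) : Y ⧸ RGD.B cs h T X) = QuotientGroup.mk 1
    rw [eq_comm, QuotientGroup.eq]
    simpa using hb
  rw [h2 _ b hfix, card_opp_fixed R Δ hδ hb]

end Cfsg.Agent.H167.AltRGD
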