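import Cfsg.Agent.H167.HasSt
import Cfsg.Agent.H163.Steinberg
import Cfsg.Agent.H979.LieSplit

/-!
# The Steinberg character of every finite simple group of Lie type (helper167)

`hasSt_of_lie` : a finite simple group of Lie type in characteristic `p` (all families, also Suzuki, Ree, `2F4`)
has an irreducible character of degree `|T|_p` vanishing on the nontrivial `p`-elements.
-/

set_option autoImplicit false

universe u

namespace Cfsg.Agent.H167.StChar

open Cfsg

theorem HasSt.of_hasSplit {p : ℕ} [Fact p.Prime] {T : Type*} [Group T] [Finite T] (h : FixBN.HasSplit p T) :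
    HasSt p T :=
  hasSt_iff.2 (H163.Steinberg.exists_irr_of_hasSplit h)

theorem hasSt_of_lie {p : ℕ} (hp : p.Prime) {T : Type u} [Group T] [Finite T] [IsSimpleGroup T]
    (h : IsLieTypeChar p T) : HasSt p T := by
  have : Fact p.Prime := ⟨hp⟩
  exact HasSt.of_hasSplit (H979.LieSplit.hasSplit_of_isLieTypeChar hp h)

end Cfsg.Agent.H167.StChar
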