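import Mathlib
import Cfsg.Prelude.Def_Perm

/-!
# An alternating sum formula for traces (helper167)

A finite set `E` with equivalence relations `r K` indexed by the subsets `K` of a finite set `T`, such that every
class of `r K` has a gate: a smallest element, and the gates of the `r K`-classes are the `x` with `K ⊆ N x`.

* `Sys.trace_harm` : if a group acts on `E` preserving the relations, the trace of `g` on the space of functions
  whose sums over the `r {t}`-classes are all zero is `∑ K, (-1) ^ |K| * (number of `r K`-classes fixed by g)`.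
-/

set_option autoImplicit false
set_option linter.unusedSectionVars false
set_option linter.unusedVariables false

namespace Cfsg.Agent.H167.AltTrace

open Module Cfsg

section Lin

variable {M κ : Type*} [AddCommGroup M] [Module ℂ M]

/-- The trace of the restriction of a linear map to the span of a part of a basis. -/
theorem trace_restrict_span [Finite κ] (b : Basis κ ℂ M) (p : κ → Prop) [Fintype {i // p i}] (V : Submodule ℂ M)
    (hV : V = Submodule.span ℂ (Set.range (fun i : {i // p i} => b i))) (g : M →ₗ[ℂ] M)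
    (hg : ∀ v ∈ V, g v ∈ V) :
    LinearMap.trace ℂ V (g.restrict hg) = ∑ i : {i // p i}, b.repr (g (b i)) i := by
  classical
  subst hV
  have hli : LinearIndependent ℂ (fun i : {i // p i} => b i) := b.linearIndependent.comp _ Subtype.val_injective
  have key : ∀ (v : Submodule.span ℂ (Set.range (fun i : {i // p i} => b i))) (i : {i // p i}),
      (Basis.span hli).repr v i = b.repr v i := by
    intro v i
    conv_rhs => rw [← (Basis.span hli).sum_repr v]
    rw [Submodule.coe_sum, map_sum, Finsupp.finsetSum_apply, Finset.sum_eq_single i]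
    · rw [Submodule.coe_smul, Basis.coe_span_apply, map_smul, Finsupp.smul_apply, Basis.repr_self,
        Finsupp.single_eq_same, smul_eq_mul, mul_one]
    · intro j _ hj
      rw [Submodule.coe_smul, Basis.coe_span_apply, map_smul, Finsupp.smul_apply, Basis.repr_self,
        Finsupp.single_eq_of_ne, smul_zero]
      intro h
      exact hj (Subtype.ext h.symm)
    · intro h
      exact absurd (Finset.mem_univ i) h
  rw [LinearMap.trace_eq_matrix_trace ℂ (Basis.span hli), Matrix.trace]
  refine Finset.sum_congr rfl fun i _ => ?_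
  rw [Matrix.diag_apply, LinearMap.toMatrix_apply, key]
  rw [LinearMap.coe_restrict_apply, Basis.coe_span_apply]

/-- Traces are additive over complementary invariant subspaces. -/
theorem trace_isCompl [FiniteDimensional ℂ M] {A B : Submodule ℂ M} (h : IsCompl A B) (g : M →ₗ[ℂ] M)
    (hA : ∀ v ∈ A, g v ∈ A) (hB : ∀ v ∈ B, g v ∈ B) :
    LinearMap.trace ℂ M g = LinearMap.trace ℂ A (g.restrict hA) + LinearMap.trace ℂ B (g.restrict hB) := by
  classical
  let N : Bool → Submodule ℂ M := fun b => cond b A B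
  have h1 : DirectSum.IsInternal N :=
    (DirectSum.isInternal_submodule_iff_isCompl N (i := true) (j := false) (by decide)
      (by ext b; cases b <;> simp)).2 h
  have hN : ∀ b, Set.MapsTo g (N b) (N b) := by
    intro b
    cases b
    · exact fun v hv => hB v hv
    · exact fun v hv => hA v hv
  rw [LinearMap.trace_eq_sum_trace_restrict h1 hN, Fintype.sum_bool]
  rfl

end Lin

variable {ι : Type*} [DecidableEq ι]

/-- A system of equivalence relations with gates. -/
structure Sys (E : Type*) (T : Finset ι) where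
  /-- the relations -/
  r : Finset ι → E → E → Prop
  equiv : ∀ K, K ⊆ T → Equivalence (r K)
  mono : ∀ K L, K ⊆ L → L ⊆ T → ∀ x y, r K x y → r L x y
  /-- the set of the `t` such that `x` is the gate of its `t`-class -/
  N : E → Finset ι
  N_sub : ∀ x, N x ⊆ T
  /-- the length -/
  len : E → ℕ
  gate : ∀ K, K ⊆ T → ∀ x, ∃ y, r K x y ∧ K ⊆ N y
  gate_lt : ∀ K, K ⊆ T → ∀ y z, K ⊆ N y → r K y z → z ≠ y → len y < len z

namespace Sys

variable {E : Type*} {T : Finset ι} (S : Sys E T)

open Classical in
/-- The indicator function of the `N x`-class of `x`. -/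
noncomputable def f (x : E) : E → ℂ := fun z => if S.r (S.N x) x z then 1 else 0

theorem f_self (x : E) : S.f x x = 1 := by
  unfold f
  rw [if_pos ((S.equiv _ (S.N_sub x)).refl x)]

theorem f_ne_zero {x z : E} (h : S.f x z ≠ 0) : z = x ∨ S.len x < S.len z := by
  by_cases hz : z = x
  · exact Or.inl hz
  right
  unfold f at h
  by_cases h1 : S.r (S.N x) x z
  · exact S.gate_lt _ (S.N_sub x) x z (Finset.Subset.refl _) h1 hz
  · rw [if_neg h1] at h
    exact absurd rfl h

theorem gate_unique {K : Finset ι} (hK : K ⊆ T) {y z : E} (hy : K ⊆ S.N y) (hz : K ⊆ S.N z) (h : S.r K y z) :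
    y = z := by
  by_contra hne
  have h1 := S.gate_lt K hK y z hy h (fun e => hne e.symm)
  have h2 := S.gate_lt K hK z y hz ((S.equiv K hK).symm h) hne
  omega

variable [Fintype E]

theorem sum_eval {c : E → ℂ} {x : E} (hx : ∀ y, c y ≠ 0 → S.len x ≤ S.len y) :
    (∑ y, c y • S.f y) x = c x := by
  rw [Finset.sum_apply, Finset.sum_eq_single x]
  · rw [Pi.smul_apply, f_self, smul_eq_mul, mul_one]
  · intro y _ hy
    rw [Pi.smul_apply, smul_eq_mul]
    by_contra hne
    have h1 : c y ≠ 0 := left_ne_zero_of_mul hne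
    have h2 : S.f y x ≠ 0 := right_ne_zero_of_mul hne
    have h3 := hx y h1
    rcases S.f_ne_zero h2 with h4 | h4
    · exact hy h4.symm
    · omega
  · intro h
    exact absurd (Finset.mem_univ x) h

theorem exists_min {p : E → Prop} (h : ∃ x, p x) : ∃ x, p x ∧ ∀ y, p y → S.len x ≤ S.len y := by
  classical
  obtain ⟨x0, hx0⟩ := h
  have hne : (Finset.univ.filter p).Nonempty := ⟨x0, by simp [hx0]⟩
  obtain ⟨x, hx, hmin⟩ := Finset.exists_min_image (Finset.univ.filter p) S.len hne
  simp only [Finset.mem_filter, Finset.mem_univ, true_and] at hx hmin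
  exact ⟨x, hx, hmin⟩

theorem linearIndependent_f : LinearIndependent ℂ S.f := by
  rw [Fintype.linearIndependent_iff]
  intro c hc
  by_contra hcon
  push Not at hcon
  obtain ⟨x, hx, hmin⟩ := S.exists_min hcon
  have h1 := S.sum_eval (c := c) hmin
  rw [hc] at h1
  exact hx h1.symm

/-- The adapted basis. -/
noncomputable def basis [Nonempty E] : Basis E ℂ (E → ℂ) :=
  basisOfLinearIndependentOfCardEqFinrank S.linearIndependent_f (by rw [finrank_fintype_fun_eq_card])

theorem basis_apply [Nonempty E] (x : E) : S.basis x = S.f x := by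
  unfold basis
  rw [coe_basisOfLinearIndependentOfCardEqFinrank]

/-- The functions which are constant on the `K`-classes. -/
def V (K : Finset ι) : Submodule ℂ (E → ℂ) where
  carrier := {h | ∀ x y, S.r K x y → h x = h y}
  add_mem' := by
    intro a b ha hb x y hxy
    rw [Pi.add_apply, Pi.add_apply, ha x y hxy, hb x y hxy]
  zero_mem' := by
    intro x y _
    rfl
  smul_mem' := by
    intro c a ha x y hxy
    rw [Pi.smul_apply, Pi.smul_apply, ha x y hxy]

theorem mem_V {K : Finset ι} {h : E → ℂ} : h ∈ S.V K ↔ ∀ x y, S.r K x y → h x = h y := Iff.rfl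

theorem f_mem_V {K : Finset ι} {x : E} (hx : K ⊆ S.N x) : S.f x ∈ S.V K := by
  intro y z hyz
  have h1 := S.mono K _ hx (S.N_sub x) y z hyz
  unfold f
  have h2 : S.r (S.N x) x y ↔ S.r (S.N x) x z :=
    ⟨fun h => (S.equiv _ (S.N_sub x)).trans h h1, fun h => (S.equiv _ (S.N_sub x)).trans h
      ((S.equiv _ (S.N_sub x)).symm h1)⟩
  by_cases h : S.r (S.N x) x y
  · rw [if_pos h, if_pos (h2.1 h)]
  · rw [if_neg h, if_neg (fun h3 => h (h2.2 h3))]

theorem repr_eq_zero [Nonempty E] {K : Finset ι} (hK : K ⊆ T) {h : E → ℂ} (hh : h ∈ S.V K) {x : E}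
    (hx : ¬ K ⊆ S.N x) : S.basis.repr h x = 0 := by
  classical
  by_contra hne
  -- the bad part of `h`
  set c : E → ℂ := fun y => if K ⊆ S.N y then 0 else S.basis.repr h y with hc
  have hsum : ∑ y, S.basis.repr h y • S.f y = h := by
    have := S.basis.sum_repr h
    simp only [basis_apply] at this
    exact this
  have h1 : ∑ y, c y • S.f y = h - ∑ y, (if K ⊆ S.N y then S.basis.repr h y else 0) • S.f y := by
    rw [eq_sub_iff_add_eq, ← Finset.sum_add_distrib]
    conv_rhs => rw [← hsum]
    refine Finset.sum_congr rfl fun y _ => ?_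
    rw [← add_smul]
    congr 1
    rw [hc]
    by_cases hy : K ⊆ S.N y
    · simp [hy]
    · simp [hy]
  have h2 : ∑ y, c y • S.f y ∈ S.V K := by
    rw [h1]
    refine Submodule.sub_mem _ hh (Submodule.sum_mem _ fun y _ => ?_)
    by_cases hy : K ⊆ S.N y
    · exact Submodule.smul_mem _ _ (S.f_mem_V hy)
    · rw [if_neg hy, zero_smul]
      exact Submodule.zero_mem _
  obtain ⟨w, hw, hmin⟩ := S.exists_min (p := fun y => c y ≠ 0) ⟨x, by rw [hc]; simpa [hx] using hne⟩
  have hwK : ¬ K ⊆ S.N w := by
    intro h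
    apply hw
    rw [hc]
    simp [h]
  have h3 := S.sum_eval (c := c) hmin
  obtain ⟨y, hy, hyK⟩ := S.gate K hK w
  have hyw : w ≠ y := by
    rintro rfl
    exact hwK hyK
  have h4 := S.gate_lt K hK y w hyK ((S.equiv K hK).symm hy) hyw
  have h5 : (∑ z, c z • S.f z) y ≠ 0 := by
    rw [← h2 w y hy, h3]
    exact hw
  apply h5
  rw [S.sum_eval (c := c) (x := y) (fun z hz => by have := hmin z hz; omega)]
  rw [hc]
  simp [hyK]

theorem V_eq_span [Nonempty E] {K : Finset ι} (hK : K ⊆ T) :
    S.V K = Submodule.span ℂ (Set.range (fun i : {i // K ⊆ S.N i} => S.basis i)) := by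
  classical
  apply le_antisymm
  · intro h hh
    rw [← S.basis.sum_repr h]
    refine Submodule.sum_mem _ fun y _ => ?_
    by_cases hy : K ⊆ S.N y
    · exact Submodule.smul_mem _ _ (Submodule.subset_span ⟨⟨y, hy⟩, rfl⟩)
    · rw [S.repr_eq_zero hK hh hy, zero_smul]
      exact Submodule.zero_mem _
  · rw [Submodule.span_le]
    rintro _ ⟨i, rfl⟩
    change S.basis i ∈ S.V K
    rw [basis_apply]
    exact S.f_mem_V i.2

open Classical in
/-- The functions whose sums over the `t`-classes, `t ∈ T`, are zero. -/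
noncomputable def harm : Submodule ℂ (E → ℂ) where
  carrier := {h | ∀ t ∈ T, ∀ x, ∑ y, (if S.r {t} x y then h y else 0) = 0}
  add_mem' := by
    intro a b ha hb t ht x
    have h1 : ∑ y, (if S.r {t} x y then (a + b) y else 0) =
        ∑ y, (if S.r {t} x y then a y else 0) + ∑ y, (if S.r {t} x y then b y else 0) := by
      rw [← Finset.sum_add_distrib]
      refine Finset.sum_congr rfl fun y _ => ?_
      by_cases h : S.r {t} x y
      · simp [h]
      · simp [h]
    rw [h1, ha t ht x, hb t ht x, add_zero]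
  zero_mem' := by
    intro t _ x
    simp
  smul_mem' := by
    intro c a ha t ht x
    have h1 : ∑ y, (if S.r {t} x y then (c • a) y else 0) = c * ∑ y, (if S.r {t} x y then a y else 0) := by
      rw [Finset.mul_sum]
      refine Finset.sum_congr rfl fun y _ => ?_
      by_cases h : S.r {t} x y
      · simp [h]
      · simp [h]
    rw [h1, ha t ht x, mul_zero]

open Classical in
theorem mem_harm {h : E → ℂ} :
    h ∈ S.harm ↔ ∀ t ∈ T, ∀ x, ∑ y, (if S.r {t} x y then h y else 0) = 0 := Iff.rfl

/-- The span of the functions constant on the classes of some `t ∈ T`. -/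
noncomputable def W [Nonempty E] : Submodule ℂ (E → ℂ) :=
  Submodule.span ℂ (Set.range (fun i : {i // S.N i ≠ ∅} => S.basis i))

theorem V_le_W [Nonempty E] {t : ι} (ht : t ∈ T) : S.V {t} ≤ S.W := by
  rw [S.V_eq_span (Finset.singleton_subset_iff.2 ht), Submodule.span_le]
  rintro _ ⟨i, rfl⟩
  refine Submodule.subset_span ⟨⟨i, ?_⟩, rfl⟩
  intro h
  have := i.2
  rw [h] at this
  exact absurd (this (Finset.mem_singleton_self t)) (Finset.notMem_empty t)

/-- A harmonic function is orthogonal to a function which is constant on the `t`-classes. -/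
theorem sum_mul_eq_zero {t : ι} (ht : t ∈ T) {h v : E → ℂ} (hh : h ∈ S.harm) (hv : v ∈ S.V {t}) :
    ∑ y, h y * v y = 0 := by
  classical
  have hsub : ({t} : Finset ι) ⊆ T := Finset.singleton_subset_iff.2 ht
  have heq := S.equiv {t} hsub
  -- sum over the gates
  have h1 : ∀ y, h y * v y = ∑ x, if {t} ⊆ S.N x ∧ S.r {t} x y then h y * v x else 0 := by
    intro y
    obtain ⟨x, hx, hxN⟩ := S.gate {t} hsub y
    rw [Finset.sum_eq_single x]
    · rw [if_pos ⟨hxN, heq.symm hx⟩, hv y x hx]
    · intro z _ hz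
      rw [if_neg]
      rintro ⟨hzN, hzy⟩
      exact hz (S.gate_unique hsub hzN hxN (heq.trans hzy hx))
    · intro h
      exact absurd (Finset.mem_univ x) h
  rw [Finset.sum_congr rfl fun y _ => h1 y, Finset.sum_comm]
  apply Finset.sum_eq_zero
  intro x _
  by_cases hx : {t} ⊆ S.N x
  · have h2 : ∀ y, (if {t} ⊆ S.N x ∧ S.r {t} x y then h y * v x else 0) =
        v x * (if S.r {t} x y then h y else 0) := by
      intro y
      by_cases hy : S.r {t} x y
      · rw [if_pos ⟨hx, hy⟩, if_pos hy, mul_comm]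
      · rw [if_neg (fun h => hy h.2), if_neg hy, mul_zero]
    rw [Finset.sum_congr rfl fun y _ => h2 y, ← Finset.mul_sum, hh t ht x, mul_zero]
  · apply Finset.sum_eq_zero
    intro y _
    rw [if_neg (fun h => hx h.1)]

theorem sum_mul_eq_zero' [Nonempty E] {h v : E → ℂ} (hh : h ∈ S.harm) (hv : v ∈ S.W) :
    ∑ y, h y * v y = 0 := by
  induction hv using Submodule.span_induction with
  | mem v hv =>
    obtain ⟨⟨i, hi⟩, rfl⟩ := hv
    obtain ⟨t, ht⟩ := Finset.nonempty_iff_ne_empty.2 hi
    refine S.sum_mul_eq_zero (S.N_sub i ht) hh ?_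
    change S.basis i ∈ _
    rw [basis_apply]
    exact S.f_mem_V (Finset.singleton_subset_iff.2 ht)
  | zero => simp
  | add a b _ _ ha hb =>
    have : ∑ y, h y * (a + b) y = ∑ y, h y * a y + ∑ y, h y * b y := by
      rw [← Finset.sum_add_distrib]
      exact Finset.sum_congr rfl fun y _ => by rw [Pi.add_apply, mul_add]
    rw [this, ha, hb, add_zero]
  | smul c a _ ha =>
    have : ∑ y, h y * (c • a) y = c * ∑ y, h y * a y := by
      rw [Finset.mul_sum]
      exact Finset.sum_congr rfl fun y _ => by rw [Pi.smul_apply, smul_eq_mul]; ring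
    rw [this, ha, mul_zero]

theorem conj_mem_harm {h : E → ℂ} (hh : h ∈ S.harm) : (fun x => (starRingEnd ℂ) (h x)) ∈ S.harm := by
  classical
  intro t ht x
  have h1 := hh t ht x
  have h2 := congrArg (starRingEnd ℂ) h1
  rw [map_sum, map_zero] at h2
  refine Eq.trans ?_ h2
  refine Finset.sum_congr rfl fun y _ => ?_
  by_cases hy : S.r {t} x y
  · rw [if_pos hy, if_pos hy]
  · rw [if_neg hy, if_neg hy, map_zero]

theorem disjoint_harm [Nonempty E] : Disjoint S.harm S.W := by
  rw [Submodule.disjoint_def]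
  intro h hh hw
  have h1 := S.sum_mul_eq_zero' (S.conj_mem_harm hh) hw
  funext x
  have h2 : ∑ y, (Complex.normSq (h y)) = 0 := by
    have : ((∑ y, (Complex.normSq (h y)) : ℝ) : ℂ) = 0 := by
      rw [Complex.ofReal_sum, ← h1]
      refine Finset.sum_congr rfl fun y _ => ?_
      rw [mul_comm, Complex.mul_conj]
    exact_mod_cast this
  have h3 := (Finset.sum_eq_zero_iff_of_nonneg (fun y _ => Complex.normSq_nonneg (h y))).1 h2 x (Finset.mem_univ x)
  exact Complex.normSq_eq_zero.1 h3

/-- The map sending a function to its products with the basis elements of `W`. -/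
noncomputable def pairing [Nonempty E] : (E → ℂ) →ₗ[ℂ] ({i // S.N i ≠ ∅} → ℂ) where
  toFun h := fun i => ∑ y, h y * S.f i y
  map_add' a b := by
    funext i
    rw [Pi.add_apply, ← Finset.sum_add_distrib]
    exact Finset.sum_congr rfl fun y _ => by rw [Pi.add_apply, add_mul]
  map_smul' c a := by
    funext i
    rw [Pi.smul_apply, RingHom.id_apply, smul_eq_mul, Finset.mul_sum]
    exact Finset.sum_congr rfl fun y _ => by rw [Pi.smul_apply, smul_eq_mul]; ring

theorem ker_pairing_le [Nonempty E] : LinearMap.ker S.pairing ≤ S.harm := by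
  classical
  intro h hh t ht x
  rw [LinearMap.mem_ker] at hh
  have hsub : ({t} : Finset ι) ⊆ T := Finset.singleton_subset_iff.2 ht
  have heq := S.equiv {t} hsub
  -- the indicator function of the class of `x` is in `W`
  have h1 : (fun y => if S.r {t} x y then (1 : ℂ) else 0) ∈ S.W := by
    apply S.V_le_W ht
    intro y z hyz
    have h2 : S.r {t} x y ↔ S.r {t} x z := ⟨fun h => heq.trans h hyz, fun h => heq.trans h (heq.symm hyz)⟩
    by_cases h3 : S.r {t} x y
    · simp [h3, h2.1 h3]
    · have h4 : ¬ S.r {t} x z := fun h4 => h3 (h2.2 h4)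
      simp [h3, h4]
  have h2 : ∀ v ∈ S.W, ∑ y, h y * v y = 0 := by
    intro v hv
    induction hv using Submodule.span_induction with
    | mem v hv =>
      obtain ⟨i, rfl⟩ := hv
      change ∑ y, h y * S.basis i y = 0
      rw [basis_apply]
      exact congrFun hh i
    | zero => simp
    | add a b _ _ ha hb =>
      have : ∑ y, h y * (a + b) y = ∑ y, h y * a y + ∑ y, h y * b y := by
        rw [← Finset.sum_add_distrib]
        exact Finset.sum_congr rfl fun y _ => by rw [Pi.add_apply, mul_add]
      rw [this, ha, hb, add_zero]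
    | smul c a _ ha =>
      have : ∑ y, h y * (c • a) y = c * ∑ y, h y * a y := by
        rw [Finset.mul_sum]
        exact Finset.sum_congr rfl fun y _ => by rw [Pi.smul_apply, smul_eq_mul]; ring
      rw [this, ha, mul_zero]
  have h3 := h2 _ h1
  refine Eq.trans ?_ h3
  refine Finset.sum_congr rfl fun y _ => ?_
  by_cases h4 : S.r {t} x y
  · simp [h4]
  · simp [h4]

theorem finrank_W [Nonempty E] : finrank ℂ S.W = Nat.card {i // S.N i ≠ ∅} := by
  classical
  unfold W
  rw [finrank_span_eq_card (b := fun i : {i // S.N i ≠ ∅} => S.basis i)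
    (S.basis.linearIndependent.comp _ Subtype.val_injective), Nat.card_eq_fintype_card]

theorem isCompl_harm [Nonempty E] : IsCompl S.harm S.W := by
  classical
  rw [Submodule.isCompl_iff_disjoint]
  · exact S.disjoint_harm
  · rw [finrank_W]
    have h1 := LinearMap.finrank_range_add_finrank_ker S.pairing
    have h2 : finrank ℂ (LinearMap.range S.pairing) ≤ Nat.card {i // S.N i ≠ ∅} := by
      refine le_trans (Submodule.finrank_le _) ?_
      rw [finrank_fintype_fun_eq_card, Nat.card_eq_fintype_card]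
    have h3 : finrank ℂ (LinearMap.ker S.pairing) ≤ finrank ℂ S.harm :=
      Submodule.finrank_mono S.ker_pairing_le
    omega

section Act

variable {G : Type*} [Group G] [MulAction G E]
  (hr : ∀ K, K ⊆ T → ∀ (g : G) (x y : E), S.r K x y → S.r K (g • x) (g • y))

include hr in
theorem smul_mem_V {K : Finset ι} (hK : K ⊆ T) (g : G) (v : E → ℂ) (hv : v ∈ S.V K) :
    permRep ℂ G E g v ∈ S.V K := by
  intro x y hxy
  exact hv _ _ (hr K hK g⁻¹ x y hxy)

include hr in
theorem r_smul_iff {K : Finset ι} (hK : K ⊆ T) (g : G) (x y : E) : S.r K (g • x) (g • y) ↔ S.r K x y := by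
  constructor
  · intro h
    have := hr K hK g⁻¹ _ _ h
    rwa [inv_smul_smul, inv_smul_smul] at this
  · exact hr K hK g x y

include hr in
theorem smul_mem_W [Nonempty E] (g : G) (v : E → ℂ) (hv : v ∈ S.W) : permRep ℂ G E g v ∈ S.W := by
  induction hv using Submodule.span_induction with
  | mem v hv =>
    obtain ⟨⟨i, hi⟩, rfl⟩ := hv
    obtain ⟨t, ht⟩ := Finset.nonempty_iff_ne_empty.2 hi
    apply S.V_le_W (S.N_sub i ht)
    apply S.smul_mem_V hr (Finset.singleton_subset_iff.2 (S.N_sub i ht))
    change S.basis i ∈ _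
    rw [basis_apply]
    exact S.f_mem_V (Finset.singleton_subset_iff.2 ht)
  | zero => rw [map_zero]; exact Submodule.zero_mem _
  | add a b _ _ ha hb => rw [map_add]; exact Submodule.add_mem _ ha hb
  | smul c a _ ha => rw [map_smul]; exact Submodule.smul_mem _ _ ha

include hr in
theorem smul_mem_harm (g : G) (v : E → ℂ) (hv : v ∈ S.harm) : permRep ℂ G E g v ∈ S.harm := by
  classical
  intro t ht x
  have h1 := hv t ht (g⁻¹ • x)
  refine Eq.trans ?_ h1
  refine Fintype.sum_equiv (MulAction.toPerm g⁻¹) _ _ fun y => ?_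
  change (if S.r {t} x y then v (g⁻¹ • y) else 0) = if S.r {t} (g⁻¹ • x) (g⁻¹ • y) then v (g⁻¹ • y) else 0
  have := S.r_smul_iff hr (Finset.singleton_subset_iff.2 ht) g⁻¹ x y
  by_cases h : S.r {t} x y
  · rw [if_pos h, if_pos (this.2 h)]
  · rw [if_neg h, if_neg (fun h2 => h (this.1 h2))]

/-- The diagonal coefficients of `g` in the adapted basis. -/
noncomputable def coef [Nonempty E] (g : G) (x : E) : ℂ := S.basis.repr (permRep ℂ G E g (S.basis x)) x

theorem trace_V [Nonempty E] {K : Finset ι} (hK : K ⊆ T) (g : G) [Fintype {i // K ⊆ S.N i}] :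
    LinearMap.trace ℂ (S.V K) ((permRep ℂ G E g).restrict (S.smul_mem_V hr hK g)) =
      ∑ x : {i // K ⊆ S.N i}, S.coef g x :=
  trace_restrict_span S.basis (fun i => K ⊆ S.N i) (S.V K) (S.V_eq_span hK) _ _

/-- The gate of the `K`-class of an element. -/
noncomputable def gt {K : Finset ι} (hK : K ⊆ T) (x : E) : {i // K ⊆ S.N i} :=
  ⟨(S.gate K hK x).choose, (S.gate K hK x).choose_spec.2⟩

theorem gt_rel {K : Finset ι} (hK : K ⊆ T) (x : E) : S.r K x (S.gt hK x) := (S.gate K hK x).choose_spec.1

theorem gt_eq_iff {K : Finset ι} (hK : K ⊆ T) {x : E} {y : {i // K ⊆ S.N i}} :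
    S.gt hK x = y ↔ S.r K x y := by
  constructor
  · rintro rfl
    exact S.gt_rel hK x
  · intro h
    apply Subtype.ext
    exact S.gate_unique hK (S.gt hK x).2 y.2
      ((S.equiv K hK).trans ((S.equiv K hK).symm (S.gt_rel hK x)) h)

/-- The functions constant on the `K`-classes are the functions on the gates. -/
noncomputable def equivV {K : Finset ι} (hK : K ⊆ T) : S.V K ≃ₗ[ℂ] ({i // K ⊆ S.N i} → ℂ) where
  toFun h := fun i => (h : E → ℂ) i
  map_add' _ _ := rfl
  map_smul' _ _ := rfl
  invFun c := ⟨fun x => c (S.gt hK x), by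
    intro x y hxy
    have : S.gt hK x = S.gt hK y := by
      rw [gt_eq_iff]
      exact (S.equiv K hK).trans hxy (S.gt_rel hK y)
    exact congrArg c this⟩
  left_inv h := by
    apply Subtype.ext
    funext x
    exact (h.2 x _ (S.gt_rel hK x)).symm
  right_inv c := by
    funext i
    change c (S.gt hK i) = c i
    rw [(S.gt_eq_iff hK).2 ((S.equiv K hK).refl (i : E))]

theorem trace_V' {K : Finset ι} (hK : K ⊆ T) (g : G) :
    LinearMap.trace ℂ (S.V K) ((permRep ℂ G E g).restrict (S.smul_mem_V hr hK g)) =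
      (Nat.card {x // K ⊆ S.N x ∧ S.r K x (g • x)} : ℂ) := by
  classical
  let b : Basis {i // K ⊆ S.N i} ℂ (S.V K) := Basis.ofEquivFun (S.equivV hK)
  rw [LinearMap.trace_eq_matrix_trace ℂ b, Matrix.trace]
  have h2 : ∀ y : {i // K ⊆ S.N i}, (LinearMap.toMatrix b b
      ((permRep ℂ G E g).restrict (S.smul_mem_V hr hK g))).diag y = if S.r K y (g • (y : E)) then 1 else 0 := by
    intro y
    rw [Matrix.diag_apply, LinearMap.toMatrix_apply]
    have h3 : b.repr (((permRep ℂ G E g).restrict (S.smul_mem_V hr hK g)) (b y)) y =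
        ((b y : S.V K) : E → ℂ) (g⁻¹ • (y : E)) := rfl
    have h4 : ∀ z : E, ((b y : S.V K) : E → ℂ) z = if S.r K y z then 1 else 0 := by
      intro z
      have h5 : ((b y : S.V K) : E → ℂ) z = (Pi.single y (1 : ℂ) : {i // K ⊆ S.N i} → ℂ) (S.gt hK z) := by
        have h6 : b y = (S.equivV hK).symm (Pi.single y 1) := by
          rw [Module.Basis.coe_ofEquivFun]
        rw [h6]
        rfl
      have h7 : S.gt hK z = y ↔ S.r K y z := by
        rw [S.gt_eq_iff hK]
        exact ⟨(S.equiv K hK).symm, (S.equiv K hK).symm⟩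
      rw [h5]
      by_cases h8 : S.r K y z
      · rw [if_pos h8, h7.2 h8, Pi.single_eq_same]
      · rw [if_neg h8, Pi.single_eq_of_ne (fun h9 => h8 (h7.1 h9))]
    rw [h3, h4]
    have h5 : S.r K y (g⁻¹ • (y : E)) ↔ S.r K y (g • (y : E)) := by
      have h6 := S.r_smul_iff hr hK g (y : E) (g⁻¹ • (y : E))
      rw [smul_inv_smul] at h6
      rw [← h6]
      exact ⟨(S.equiv K hK).symm, (S.equiv K hK).symm⟩
    by_cases h : S.r K y (g • (y : E))
    · rw [if_pos h, if_pos (h5.2 h)]
    · rw [if_neg h, if_neg (fun h6 => h (h5.1 h6))]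
  rw [Finset.sum_congr rfl fun y _ => h2 y, Finset.sum_boole]
  congr 1
  rw [← Fintype.card_subtype, ← Nat.card_eq_fintype_card]
  exact Nat.card_congr (Equiv.subtypeSubtypeEquivSubtypeInter (fun y => K ⊆ S.N y) (fun y => S.r K y (g • y)))

include hr in
/-- The alternating sum over the sets `K` of the numbers of fixed classes is the sum of the diagonal coefficients at
the elements with `N x = ∅`. -/
theorem sum_coef [Nonempty E] (g : G) :
    ∑ K ∈ T.powerset, (-1 : ℂ) ^ K.card * (Nat.card {x // K ⊆ S.N x ∧ S.r K x (g • x)} : ℂ) =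
      ∑ x, if S.N x = ∅ then S.coef g x else 0 := by
  classical
  have h1 : ∀ K ∈ T.powerset, (-1 : ℂ) ^ K.card * (Nat.card {x // K ⊆ S.N x ∧ S.r K x (g • x)} : ℂ) =
      ∑ x, if K ⊆ S.N x then (-1 : ℂ) ^ K.card * S.coef g x else 0 := by
    intro K hK
    rw [Finset.mem_powerset] at hK
    rw [← S.trace_V' hr hK g, S.trace_V hr hK g, Finset.mul_sum]
    rw [← Finset.sum_filter]
    refine (Finset.sum_subtype (Finset.univ.filter (fun x => K ⊆ S.N x)) (p := fun i => K ⊆ S.N i) ?_
      (fun x => (-1 : ℂ) ^ K.card * S.coef g x)).symm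
    intro x
    simp
  rw [Finset.sum_congr rfl h1, Finset.sum_comm]
  refine Finset.sum_congr rfl fun x _ => ?_
  rw [← Finset.sum_filter]
  have h2 : T.powerset.filter (fun K => K ⊆ S.N x) = (S.N x).powerset := by
    ext K
    simp only [Finset.mem_filter, Finset.mem_powerset]
    exact ⟨fun h => h.2, fun h => ⟨h.trans (S.N_sub x), h⟩⟩
  rw [h2, ← Finset.sum_mul]
  have h3 : ∑ K ∈ (S.N x).powerset, (-1 : ℂ) ^ K.card = if S.N x = ∅ then 1 else 0 := by
    have h4 := Finset.sum_powerset_neg_one_pow_card (x := S.N x)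
    have h5 := congrArg (Int.cast : ℤ → ℂ) h4
    push_cast at h5
    exact h5
  rw [h3]
  by_cases h : S.N x = ∅
  · rw [if_pos h, if_pos h, one_mul]
  · rw [if_neg h, if_neg h, zero_mul]

/-- **The alternating sum formula for the trace on the harmonic functions.** -/
theorem trace_harm [Nonempty E] (g : G) :
    LinearMap.trace ℂ S.harm ((permRep ℂ G E g).restrict (S.smul_mem_harm hr g)) =
      ∑ K ∈ T.powerset, (-1 : ℂ) ^ K.card * (Nat.card {x // K ⊆ S.N x ∧ S.r K x (g • x)} : ℂ) := by
  classical
  rw [S.sum_coef hr g]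
  have h1 := trace_isCompl S.isCompl_harm (permRep ℂ G E g) (S.smul_mem_harm hr g) (S.smul_mem_W hr g)
  have h2 : LinearMap.trace ℂ S.W ((permRep ℂ G E g).restrict (S.smul_mem_W hr g)) =
      ∑ x : {i // S.N i ≠ ∅}, S.coef g x :=
    trace_restrict_span S.basis (fun i => S.N i ≠ ∅) S.W rfl _ _
  have h3 : LinearMap.trace ℂ (E → ℂ) (permRep ℂ G E g) = ∑ x, S.coef g x := by
    rw [LinearMap.trace_eq_matrix_trace ℂ S.basis, Matrix.trace]
    refine Finset.sum_congr rfl fun i _ => ?_
    rw [Matrix.diag_apply, LinearMap.toMatrix_apply]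
    rfl
  have h4 : ∑ x : {i // S.N i ≠ ∅}, S.coef g x = ∑ x, if S.N x ≠ ∅ then S.coef g x else 0 := by
    rw [← Finset.sum_filter]
    refine (Finset.sum_subtype (Finset.univ.filter (fun x => S.N x ≠ ∅)) (p := fun i => S.N i ≠ ∅) ?_
      (fun x => S.coef g x)).symm
    intro x
    simp
  have h5 : ∑ x, S.coef g x = (∑ x, if S.N x = ∅ then S.coef g x else 0) +
      ∑ x, if S.N x ≠ ∅ then S.coef g x else 0 := by
    rw [← Finset.sum_add_distrib]
    refine Finset.sum_congr rfl fun x _ => ?_
    by_cases h : S.N x = ∅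
    · simp [h]
    · simp [h]
  rw [h3, h2, h4, h5] at h1
  exact (add_right_cancel h1).symm

/-- The dimension of the space of harmonic functions. -/
theorem finrank_harm [Nonempty E] : finrank ℂ S.harm = Nat.card {x // S.N x = ∅} := by
  classical
  have h1 := Submodule.finrank_add_eq_of_isCompl S.isCompl_harm
  rw [finrank_W, finrank_fintype_fun_eq_card, ← Nat.card_eq_fintype_card] at h1
  have h2 : Nat.card E = Nat.card {x // S.N x = ∅} + Nat.card {i // S.N i ≠ ∅} := by
    rw [Nat.card_eq_fintype_card, Nat.card_eq_fintype_card, Nat.card_eq_fintype_card, Fintype.card_subtype,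
      Fintype.card_subtype, Finset.card_filter_add_card_filter_not, Finset.card_univ]
  omega

end Act

end Sys

end Cfsg.Agent.H167.AltTrace
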