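import Cfsg.Agent.H167.AltRGD
import Cfsg.Agent.Nodes.RGDChev

/-!
# The Steinberg character of the Chevalley groups `D.group F` (helper167)

The root group datum `Nodes.RGDChev.rgd` of `D.group K` and the standard subgroups of the statements:
* `U_eq`, `B_eq`, `P_eq` : `U`, `B`, `P_J` of the root group datum are `posUnipotent`, `borelSubgroup`,
  `parabolicSubgroup`;
* `steinberg_eq` : `D.steinbergCharacter K` as the alternating sum of the root group datum;
* `isIrr_steinberg`, `steinberg_borel`, `steinberg_one_eq`.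
-/

set_option autoImplicit false
set_option linter.unusedSectionVars false

namespace Cfsg.Agent.H167.AltChev

open Cfsg CoxeterSystem Cfsg.Agent.ChevalleyStructure.CoxeterGeom Cfsg.Agent.Tits.Roots Cfsg.Agent.Tits.Core
  Cfsg.Agent.Nodes.Comb Cfsg.Agent.Nodes.Reps Cfsg.Agent.Nodes.BNOf
open Cfsg.Lie Cfsg.Agent.ChevalleyStructure Cfsg.Agent.ChevalleyStructure.Elts
  Cfsg.Agent.ChevalleyStructure.RootVec Cfsg.Agent.Nodes.RGDChev Cfsg.Agent.Nodes

universe u

variable {D : ChevalleyDatum} {l : ℕ} {M : CoxeterMatrix (Fin l)} (hp : IsType D l M)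

section Std

variable (K : Type u) [Field K]

/-- the torus -/
abbrev Tc (D : ChevalleyDatum) (K : Type u) [Field K] : Subgroup ↥(D.group K) :=
  (D.diagonalSubgroup K).subgroupOf (D.group K)

/-- the root groups -/
abbrev Xc (D : ChevalleyDatum) (l : ℕ) (K : Type u) [Field K] (x : Fin l → ℤ) : Subgroup ↥(D.group K) :=
  (XV D l K x).subgroupOf (D.group K)

/-- the representatives of the simple reflections -/
abbrev nc (i : Fin l) : ↥(D.group K) := ⟨nn hp K i, nn_mem_group hp i⟩

include hp in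
theorem pos_iff_vec {r : ℕ} (hr : r < D.nroots) : D.IsPosRoot r ↔ 0 ≤ vec D l r := by
  rw [isPosRoot_iff hp.checked]
  constructor
  · rintro ⟨-, h⟩ i
    exact h i (lt_rank hp i)
  · intro h
    refine ⟨hr, fun i hi => ?_⟩
    rw [hp.rank_eq] at hi
    exact h ⟨i, hi⟩

theorem U_map : (RGD.Sup (Xc D l K) (RGD.Pos M.toCoxeterSystem hp.isCartan)).map (D.group K).subtype =
    D.posUnipotent K := by
  apply le_antisymm
  · rw [Subgroup.map_le_iff_le_comap]
    refine RGD.Sup_le fun x hx => ?_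
    obtain ⟨r, hr, rfl⟩ := (isRoot_iff hp _ x).1 hx.1
    intro g hg
    have h1 : (g : GL D.Idx K) ∈ D.rootSubgroup K r := by
      rw [← XV_vec hp K hr]
      exact hg
    obtain ⟨t, ht⟩ := (mem_rootSubgroup_iff hp.inList r _).1 h1
    show (g : GL D.Idx K) ∈ D.posUnipotent K
    rw [ht]
    exact xG_mem_posUnipotent hp.inList ((pos_iff_vec hp hr).2 hx.2) t
  · rw [posUnipotent_le_iff hp.inList]
    intro r hr t
    refine ⟨⟨xG hp.inList r t, xG_mem_group hp.inList r t⟩, ?_, rfl⟩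
    refine RGD.le_Sup (S := RGD.Pos M.toCoxeterSystem hp.isCartan) (z := vec D l r)
      ⟨isRoot_vec hp _ hr.1, (pos_iff_vec hp hr.1).1 hr⟩ ?_
    rw [Subgroup.mem_subgroupOf, XV_vec hp K hr.1]
    exact xG_mem_rootSubgroup hp.inList r t

theorem U_eq : RGD.Sup (Xc D l K) (RGD.Pos M.toCoxeterSystem hp.isCartan) =
    (D.posUnipotent K).subgroupOf (D.group K) := by
  rw [← U_map hp K, Subgroup.subgroupOf, Subgroup.comap_map_eq_self_of_injective (Subgroup.subtype_injective _)]

theorem B_map : (RGD.B M.toCoxeterSystem hp.isCartan (Tc D K) (Xc D l K)).map (D.group K).subtype =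
    D.borelSubgroup K := by
  unfold RGD.B
  rw [Subgroup.map_sup, U_map hp K, Subgroup.subgroupOf_map_subtype,
    inf_eq_left.2 (diagonal_le_group hp.inList K), sup_comm]
  rfl

theorem B_eq : RGD.B M.toCoxeterSystem hp.isCartan (Tc D K) (Xc D l K) =
    (D.borelSubgroup K).subgroupOf (D.group K) := by
  rw [← B_map hp K, Subgroup.subgroupOf, Subgroup.comap_map_eq_self_of_injective (Subgroup.subtype_injective _)]

theorem coe_nc (i : Fin l) :
    ((nc hp K i : GL D.Idx K) : Matrix D.Idx D.Idx K) = D.nMat K (D.simple i) 1 :=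
  coe_nG hp.inList (D.simple i) 1

theorem P_map (J : Finset (Fin l)) :
    (RGD.B M.toCoxeterSystem hp.isCartan (Tc D K) (Xc D l K) ⊔
      Subgroup.closure (nc hp K '' (J : Set (Fin l)))).map (D.group K).subtype =
    D.parabolicSubgroup K (↑(J.map Fin.valEmbedding) : Set ℕ) := by
  rw [Subgroup.map_sup, B_map hp K, MonoidHom.map_closure]
  unfold ChevalleyDatum.parabolicSubgroup
  congr 2
  ext g
  constructor
  · rintro ⟨_, ⟨i, hi, rfl⟩, rfl⟩
    refine ⟨i, ?_, lt_rank hp i, coe_nc hp K i⟩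
    rw [Finset.coe_map]
    exact ⟨i, hi, rfl⟩
  · rintro ⟨j, hj, -, hg⟩
    rw [Finset.coe_map] at hj
    obtain ⟨i, hi, rfl⟩ := hj
    refine ⟨nc hp K i, ⟨i, hi, rfl⟩, ?_⟩
    apply Units.ext
    rw [hg]
    exact coe_nc hp K i

theorem P_eq (J : Finset (Fin l)) :
    RGD.B M.toCoxeterSystem hp.isCartan (Tc D K) (Xc D l K) ⊔ Subgroup.closure (nc hp K '' (J : Set (Fin l))) =
      D.parabolicIn K (J.map Fin.valEmbedding) := by
  unfold ChevalleyDatum.parabolicIn
  rw [← P_map hp K, Subgroup.subgroupOf, Subgroup.comap_map_eq_self_of_injective (Subgroup.subtype_injective _)]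

/-- The alternating sum of the statements is the alternating sum of the root group datum. -/
theorem steinberg_eq (g : ↥(D.group K)) :
    D.steinbergCharacter K g = ∑ J ∈ (Finset.univ : Finset (Fin l)).powerset, (-1 : ℂ) ^ J.card *
      fixedPointCharacter (RGD.B M.toCoxeterSystem hp.isCartan (Tc D K) (Xc D l K) ⊔
        Subgroup.closure (nc hp K '' (J : Set (Fin l)))) g := by
  unfold ChevalleyDatum.steinbergCharacter
  symm
  refine Finset.sum_bij (fun J _ => J.map Fin.valEmbedding) ?_ ?_ ?_ ?_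
  · intro J _
    rw [Finset.mem_powerset]
    intro j hj
    rw [Finset.mem_map] at hj
    obtain ⟨i, -, rfl⟩ := hj
    rw [Finset.mem_range]
    exact lt_rank hp i
  · intro J _ J' _ h
    exact Finset.map_injective _ h
  · intro J hJ
    rw [Finset.mem_powerset] at hJ
    refine ⟨Finset.univ.filter (fun i : Fin l => (i : ℕ) ∈ J), Finset.mem_powerset.2 (Finset.subset_univ _), ?_⟩
    ext j
    rw [Finset.mem_map]
    constructor
    · rintro ⟨i, hi, rfl⟩
      exact (Finset.mem_filter.1 hi).2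
    · intro hj
      have h1 := Finset.mem_range.1 (hJ hj)
      rw [hp.rank_eq] at h1
      exact ⟨⟨j, h1⟩, Finset.mem_filter.2 ⟨Finset.mem_univ _, hj⟩, rfl⟩
  · intro J _
    rw [Finset.card_map, P_eq hp K J]

end Std

section Fin

variable {K : Type u} [Field K] [Finite K]

instance : Finite ↥(D.group K) := inferInstance

include hp in
/-- **The Steinberg character of the Chevalley groups is irreducible**, and its values on `B`. -/
theorem main : IsIrrCharacter ↥(D.group K) (D.steinbergCharacter K) ∧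
    ∀ b ∈ (D.borelSubgroup K).subgroupOf (D.group K), D.steinbergCharacter K b =
      (Nat.card {u : (D.posUnipotent K).subgroupOf (D.group K) // (u : ↥(D.group K))⁻¹ * b * u ∈ Tc D K} : ℂ) := by
  obtain ⟨p, hchar⟩ := CharP.exists K
  have : Fact p.Prime := ⟨CharP.char_is_prime K p⟩
  have : Finite M.Group := finite_W hp M.toCoxeterSystem
  obtain ⟨h1, h2⟩ := AltRGD.exists_char_alt (rgd (K := K) hp M.toCoxeterSystem p) (gen hp M.toCoxeterSystem p)
  have h3 : D.steinbergCharacter K = fun g => ∑ J ∈ (Finset.univ : Finset (Fin l)).powerset, (-1 : ℂ) ^ J.card *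
      fixedPointCharacter (RGD.B M.toCoxeterSystem hp.isCartan (Tc D K) (Xc D l K) ⊔
        Subgroup.closure (nc hp K '' (J : Set (Fin l)))) g := funext (steinberg_eq hp K)
  refine ⟨h3 ▸ h1, fun b hb => ?_⟩
  rw [steinberg_eq hp K b]
  rw [← B_eq hp K] at hb
  rw [← U_eq hp K]
  exact h2 b hb

include hp in
/-- `U` is a Sylow `p`-subgroup. -/
theorem exists_sylow (p : ℕ) [Fact p.Prime] [CharP K p] :
    ∃ P : Sylow p ↥(D.group K), (P : Subgroup ↥(D.group K)) = (D.posUnipotent K).subgroupOf (D.group K) := by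
  have : Finite M.Group := finite_W hp M.toCoxeterSystem
  have R := rgd (K := K) hp M.toCoxeterSystem p
  obtain ⟨S, hS⟩ := R.isPGroup_Upos.exists_le_sylow
  have hGG : Nodes.Bruhat.GG M.toCoxeterSystem hp.isCartan (Tc D K) (Xc D l K) = ⊤ := by
    rw [eq_top_iff, ← G1_eq_top hp M.toCoxeterSystem]
    exact iSup_le fun z => Nodes.Bruhat.X_le_GG (X := Xc D l K) (T := Tc D K) z.2
  have hSU : (S : Subgroup ↥(D.group K)) = RGD.Sup (Xc D l K) (RGD.Pos M.toCoxeterSystem hp.isCartan) :=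
    Nodes.NormalForm.eq_U_of_isPGroup R S.isPGroup' hS (by rw [hGG]; exact le_top)
  exact ⟨S, by rw [hSU, U_eq hp K]⟩

end Fin

theorem exists_isType {D : ChevalleyDatum} (hD : D ∈ [Cfsg.Lie.chevG2, Cfsg.Lie.chevB2, Cfsg.Lie.chevD4,
    Cfsg.Lie.chevF4, Cfsg.Lie.chevE6, Cfsg.Lie.chevE7, Cfsg.Lie.chevE8]) :
    ∃ (l : ℕ) (M : CoxeterMatrix (Fin l)), IsType D l M := by
  simp only [List.mem_cons, List.not_mem_nil, or_false] at hD
  rcases hD with rfl | rfl | rfl | rfl | rfl | rfl | rfl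
  · exact ⟨2, CoxeterMatrix.G₂, by simp [IsType, typeList]⟩
  · exact ⟨2, CoxeterMatrix.B 2, by simp [IsType, typeList]⟩
  · exact ⟨4, coxeterD4, by simp [IsType, typeList]⟩
  · exact ⟨4, CoxeterMatrix.F₄, by simp [IsType, typeList]⟩
  · exact ⟨6, CoxeterMatrix.E₆, by simp [IsType, typeList]⟩
  · exact ⟨7, CoxeterMatrix.E₇, by simp [IsType, typeList]⟩
  · exact ⟨8, CoxeterMatrix.E₈, by simp [IsType, typeList]⟩

/-- Fixed points on the cosets of a complement `H` of `U` in `B = U H`. -/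
theorem card_fixedBy_quotient {G : Type*} [Group G] (B U H : Subgroup G) (hU : U ≤ B)
    (hUH : ∀ b ∈ B, ∃ u ∈ U, ∃ h ∈ H, b = u * h) (hinf : ∀ g ∈ U, g ∈ H → g = 1) (b : B) :
    Nat.card (MulAction.fixedBy (B ⧸ H.subgroupOf B) b) = Nat.card {u : U // (u : G)⁻¹ * b * u ∈ H} := by
  symm
  have hfix : ∀ u : U, (b • (QuotientGroup.mk (⟨u, hU u.2⟩ : B) : B ⧸ H.subgroupOf B) =
      QuotientGroup.mk (⟨u, hU u.2⟩ : B)) ↔ (u : G)⁻¹ * b * u ∈ H := by
    intro u
    rw [MulAction.Quotient.smul_mk, eq_comm, QuotientGroup.eq, Subgroup.mem_subgroupOf]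
    have : (((⟨u, hU u.2⟩ : B)⁻¹ * (b • (⟨u, hU u.2⟩ : B)) : B) : G) = (u : G)⁻¹ * b * u := by
      rw [smul_eq_mul]
      push_cast
      group
    rw [this]
  refine Nat.card_congr (Equiv.ofBijective (fun u : {u : U // (u : G)⁻¹ * b * u ∈ H} =>
    (⟨QuotientGroup.mk (⟨u.1, hU u.1.2⟩ : B), (hfix u.1).2 u.2⟩ :
      MulAction.fixedBy (B ⧸ H.subgroupOf B) b)) ⟨?_, ?_⟩)
  · intro u u' he
    have h1 := congrArg Subtype.val he
    rw [QuotientGroup.eq, Subgroup.mem_subgroupOf] at h1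
    have h2 : ((u.1 : G))⁻¹ * (u'.1 : G) = 1 := hinf _ (mul_mem (inv_mem u.1.2) u'.1.2) h1
    exact Subtype.ext (Subtype.ext (inv_mul_eq_one.1 h2))
  · rintro ⟨q, hq⟩
    induction q using QuotientGroup.induction_on with
    | _ x =>
    obtain ⟨u, hu, h, hh, e⟩ := hUH x x.2
    have h1 : (QuotientGroup.mk x : B ⧸ H.subgroupOf B) = QuotientGroup.mk (⟨u, hU hu⟩ : B) := by
      rw [eq_comm, QuotientGroup.eq, Subgroup.mem_subgroupOf]
      have : (((⟨u, hU hu⟩ : B)⁻¹ * x : B) : G) = h := by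
        push_cast
        rw [e]
        group
      rw [this]
      exact hh
    refine ⟨⟨⟨u, hu⟩, (hfix ⟨u, hu⟩).1 ?_⟩, Subtype.ext h1.symm⟩
    rw [← h1]
    exact hq

include hp in
/-- The restriction of the Steinberg character to `B` is the permutation character on the cosets of `H`. -/
theorem steinberg_borel {K : Type u} [Field K] [Finite K] (b : ↥((D.borelSubgroup K).subgroupOf (D.group K))) :
    D.steinbergCharacter K ((((D.borelSubgroup K).subgroupOf (D.group K)).subtype) b) =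
      fixedPointCharacter (((D.diagonalSubgroup K).subgroupOf (D.group K)).subgroupOf
        ((D.borelSubgroup K).subgroupOf (D.group K))) b := by
  obtain ⟨p, hchar⟩ := CharP.exists K
  have : Fact p.Prime := ⟨CharP.char_is_prime K p⟩
  have : Finite M.Group := finite_W hp M.toCoxeterSystem
  have R := rgd (K := K) hp M.toCoxeterSystem p
  have h1 := (main (K := K) hp).2 b b.2
  refine Eq.trans h1 ?_
  unfold fixedPointCharacter
  congr 1
  symm
  refine card_fixedBy_quotient _ ((D.posUnipotent K).subgroupOf (D.group K)) (Tc D K) ?_ ?_ ?_ b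
  · rw [← U_eq hp K, ← B_eq hp K]
    exact RGD.U_le_B
  · intro x hx
    rw [← B_eq hp K] at hx
    obtain ⟨t, ht, u, hu, e⟩ := R.mem_B.1 (inv_mem hx)
    rw [← U_eq hp K]
    exact ⟨u⁻¹, inv_mem hu, t⁻¹, inv_mem ht, by rw [← inv_inv x, e, mul_inv_rev]⟩
  · intro g hg hgT
    rw [← U_eq hp K] at hg
    have h2 : g ∈ RGD.Sup (Xc D l K) (RGD.Pos M.toCoxeterSystem hp.isCartan) ⊓ Tc D K := ⟨hg, hgT⟩
    rw [OppDec.U_inf_T R] at h2
    exact h2

end Cfsg.Agent.H167.AltChev
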