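import Cfsg.Agent.H167.HasSt
import Cfsg.Agent.LieClassical.OrthFourPlus
import Cfsg.Agent.Nodes.RGDClass
import Cfsg.Agent.S0250
import Cfsg.Agent.ClassicalGeometry.OddInvolutions

/-!
# Two- and four-dimensional orthogonal groups (helper167)

* `not_dvd_card_of_dihedral` : if `G` is dihedral of order `2n` and `p` does not divide `n`, then `p` does not divide
  the order of `G' / Z(G')`;
* `hasSt_plus_two` : `PΩ⁺₄(2)` (order 18) has a Steinberg character.
-/

set_option autoImplicit false

namespace Cfsg.Agent.H167.SmallOrth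

open Cfsg Cfsg.Agent.H167.StChar
open scoped commutatorElement MatrixGroups

/-- the rotations -/
def rot (n : ℕ) : Multiplicative (ZMod n) →* DihedralGroup n where
  toFun i := DihedralGroup.r i.toAdd
  map_one' := rfl
  map_mul' _ _ := rfl

theorem commutator_le_rot (n : ℕ) : commutator (DihedralGroup n) ≤ (rot n).range := by
  rw [commutator_def, Subgroup.commutator_le]
  rintro g - h -
  have hr : ∀ i : ZMod n, DihedralGroup.r i ∈ (rot n).range := fun i => ⟨Multiplicative.ofAdd i, rfl⟩
  rw [commutatorElement_def]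
  rcases g with i | i <;> rcases h with j | j
  · simp only [DihedralGroup.inv_r, DihedralGroup.r_mul_r]
    exact hr _
  · simp only [DihedralGroup.inv_r, DihedralGroup.inv_sr, DihedralGroup.r_mul_sr, DihedralGroup.sr_mul_r,
      DihedralGroup.sr_mul_sr]
    exact hr _
  · simp only [DihedralGroup.inv_r, DihedralGroup.inv_sr, DihedralGroup.sr_mul_r,
      DihedralGroup.sr_mul_sr, DihedralGroup.r_mul_r]
    exact hr _
  · simp only [DihedralGroup.inv_sr, DihedralGroup.sr_mul_sr, DihedralGroup.r_mul_sr]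
    exact hr _

theorem card_commutator_dvd {G : Type*} [Group G] {n : ℕ} [NeZero n] (e : G ≃* DihedralGroup n) :
    Nat.card (commutator G) ∣ n := by
  have h1 : Nat.card (commutator G) = Nat.card (commutator (DihedralGroup n)) := by
    have h2 : (commutator G).map e.toMonoidHom = commutator (DihedralGroup n) := by
      rw [commutator_def, commutator_def, Subgroup.map_commutator, Subgroup.map_top_of_surjective _ e.surjective]
    rw [← h2]
    exact Nat.card_congr ((commutator G).equivMapOfInjective e.toMonoidHom e.injective).toEquiv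
  rw [h1]
  have h3 : Nat.card (rot n).range ∣ n := by
    have h4 := Subgroup.card_range_dvd (rot n)
    rwa [Nat.card_congr (Multiplicative.toAdd (α := ZMod n)), Nat.card_zmod] at h4
  exact (Subgroup.card_dvd_of_le (commutator_le_rot n)).trans h3

theorem hasSt_of_dihedral {p : ℕ} [Fact p.Prime] {G : Type*} [Group G] {n : ℕ} (hn : n ≠ 0) (hpn : ¬ p ∣ n)
    (e : G ≃* DihedralGroup n) : HasSt p (commutator G ⧸ Subgroup.center (commutator G)) := by
  have : NeZero n := ⟨hn⟩
  have hfin : Finite G := Finite.of_equiv _ e.symm.toEquiv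
  apply HasSt.of_not_dvd
  intro h
  apply hpn
  exact (h.trans (Subgroup.card_quotient_dvd_card _)).trans (card_commutator_dvd e)

/-! ### `Sym 3` -/

theorem center_perm_three : ∀ g : Equiv.Perm (Fin 3), (∀ h : Equiv.Perm (Fin 3), h * g = g * h) → g = 1 := by
  decide

theorem pow_three_of_sign : ∀ g : Equiv.Perm (Fin 3), Equiv.Perm.sign g = 1 → g ^ 3 = 1 := by
  decide

section Two

variable {F : Type*} [Field F] [Fintype F]

omit [Fintype F] in
theorem eq_one_of_mem_center (e : SL(2, F) ≃* Equiv.Perm (Fin 3)) {z : SL(2, F)} (hz : z ∈ Subgroup.center SL(2, F)) :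
    z = 1 := by
  apply e.injective
  rw [map_one]
  apply center_perm_three
  intro h
  obtain ⟨x, rfl⟩ := e.surjective h
  rw [← map_mul, ← map_mul, Subgroup.mem_center_iff.1 hz x]

theorem hasSt_perm_three (hF : Fintype.card F = 2) : HasSt 2 (Equiv.Perm (Fin 3)) := by
  obtain ⟨e⟩ := Cfsg.Agent.S0250.result hF
  have hch : CharP F 2 := by
    obtain ⟨n, hp, hn⟩ := FiniteField.card F (ringChar F)
    rw [hF] at hn
    have h1 : ringChar F ∣ 2 := by
      rw [hn]; exact dvd_pow_self _ n.ne_zero
    rcases (Nat.dvd_prime Nat.prime_two).1 h1 with h2 | h2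
    · exact absurd h2 hp.one_lt.ne'
    · rw [← h2]; infer_instance
  have h1 : HasSt 2 SL(2, F) := by
    refine HasSt.of_surjective (QuotientGroup.mk' (Subgroup.center SL(2, F))) (QuotientGroup.mk'_surjective _) ?_
      (HasSt.of_hasRGD (Cfsg.Agent.Nodes.RGDClass.hasRGD_PSL (F := F) 1 (p := 2)))
    have h2 : (QuotientGroup.mk' (Subgroup.center SL(2, F))).ker = ⊥ := by
      rw [QuotientGroup.ker_mk', Subgroup.eq_bot_iff_forall]
      exact fun z hz => eq_one_of_mem_center e hz
    rw [h2, Subgroup.card_bot]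
    decide
  exact h1.of_equiv e.symm

open Cfsg.Agent.LieClassical.OrthFourPlus Cfsg.Agent.LieClassical.OrthFourCommon

theorem units_eq_one (hF : Fintype.card F = 2) (u : Fˣ) : u = 1 := by
  classical
  have h1 : Fintype.card Fˣ = 1 := by rw [Fintype.card_units, hF]
  exact Fintype.card_le_one_iff.1 h1.le u 1

/-- `GL₂(2) = SL₂(2)` -/
def toSL (hF : Fintype.card F = 2) : GL (Fin 2) F →* SL(2, F) where
  toFun g := ⟨g, by
    have h1 := units_eq_one hF (Matrix.GeneralLinearGroup.det g)
    have h2 := congrArg Units.val h1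
    rwa [Matrix.GeneralLinearGroup.val_det_apply] at h2⟩
  map_one' := rfl
  map_mul' _ _ := rfl

theorem toSL_injective (hF : Fintype.card F = 2) : Function.Injective (toSL hF) := by
  intro g h hgh
  exact Units.ext (congrArg (fun x : SL(2, F) => (x : Matrix (Fin 2) (Fin 2) F)) hgh)

theorem toSL_toGL (hF : Fintype.card F = 2) (A : SL(2, F)) : toSL hF A.toGL = A := rfl

/-- the two projections -/
def pr1 (hF : Fintype.card F = 2) (e : SL(2, F) ≃* Equiv.Perm (Fin 3)) : Gam F →* Equiv.Perm (Fin 3) :=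
  e.toMonoidHom.comp ((toSL hF).comp ((MonoidHom.fst _ _).comp (Gam F).subtype))

def pr2 (hF : Fintype.card F = 2) (e : SL(2, F) ≃* Equiv.Perm (Fin 3)) : Gam F →* Equiv.Perm (Fin 3) :=
  e.toMonoidHom.comp ((toSL hF).comp ((MonoidHom.snd _ _).comp (Gam F).subtype))

theorem pr1_apply (hF : Fintype.card F = 2) (e : SL(2, F) ≃* Equiv.Perm (Fin 3)) (p : Gam F) :
    pr1 hF e p = e (toSL hF p.1.1) := rfl

theorem pr2_apply (hF : Fintype.card F = 2) (e : SL(2, F) ≃* Equiv.Perm (Fin 3)) (p : Gam F) :
    pr2 hF e p = e (toSL hF p.1.2) := rfl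

theorem pr_injective (hF : Fintype.card F = 2) (e : SL(2, F) ≃* Equiv.Perm (Fin 3)) {p : Gam F}
    (h1 : pr1 hF e p = 1) (h2 : pr2 hF e p = 1) : p = 1 := by
  have h3 : toSL hF p.1.1 = 1 := e.injective (by rw [map_one]; exact h1)
  have h4 : toSL hF p.1.2 = 1 := e.injective (by rw [map_one]; exact h2)
  have h5 : p.1.1 = 1 := toSL_injective hF (by rw [h3, map_one])
  have h6 : p.1.2 = 1 := toSL_injective hF (by rw [h4, map_one])
  exact Subtype.ext (Prod.ext h5 h6)

/-- the parity -/
def par (hF : Fintype.card F = 2) (e : SL(2, F) ≃* Equiv.Perm (Fin 3)) : Gam F →* ℤˣ :=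
  (Equiv.Perm.sign.comp (pr1 hF e)) * (Equiv.Perm.sign.comp (pr2 hF e))

theorem par_apply (hF : Fintype.card F = 2) (e : SL(2, F) ≃* Equiv.Perm (Fin 3)) (p : Gam F) :
    par hF e p = Equiv.Perm.sign (pr1 hF e p) * Equiv.Perm.sign (pr2 hF e p) := rfl

theorem par_sw (hF : Fintype.card F = 2) (e : SL(2, F) ≃* Equiv.Perm (Fin 3)) (p : Gam F) :
    par hF e (sw p) = par hF e p := by
  rw [par_apply, par_apply, mul_comm]
  rfl

theorem commutator_le_par (hF : Fintype.card F = 2) (e : SL(2, F) ≃* Equiv.Perm (Fin 3)) :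
    commutator (isom (dt F)) ≤ (par hF e).ker.map psi := by
  refine commutator_le_map psi (par hF e).ker tau sw tau_conj exists_eq ?_ ?_ ?_
  · intro p q
    rw [MonoidHom.mem_ker, map_commutatorElement, commutatorElement_eq_one_iff_mul_comm, mul_comm]
  · intro p hp
    rw [MonoidHom.mem_ker] at *
    rw [par_sw, hp]
  · intro p
    refine Subgroup.mem_map_of_mem _ ?_
    rw [MonoidHom.mem_ker, map_mul, map_inv, par_sw, mul_inv_cancel]

theorem psi_injective (hF : Fintype.card F = 2) : Function.Injective (psi (F := F)) := by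
  rw [← MonoidHom.ker_eq_bot_iff, Subgroup.eq_bot_iff_forall]
  intro p hp
  rw [MonoidHom.mem_ker] at hp
  have h1 : ∀ X : M F, (p.1.1 : M F) * X = X * (p.1.2 : M F) := by
    intro X
    have h2 : (psi p).1 X = X := by rw [hp]; rfl
    rw [psi_apply] at h2
    calc (p.1.1 : M F) * X = (p.1.1 : M F) * X * ((p.1.2⁻¹ : GL (Fin 2) F) : M F) * (p.1.2 : M F) := by
          rw [mul_assoc, Units.inv_mul, mul_one]
      _ = _ := by rw [h2]
  have h2 : (p.1.1 : M F) = (p.1.2 : M F) := by simpa using h1 1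
  have h3 : (p.1.1 : M F) = 1 := by
    have hA := h1 !![0, 1; 0, 0]
    have hB := h1 !![0, 0; 1, 0]
    rw [← h2] at hA hB
    have a1 := congrFun (congrFun hA 0) 1
    have a2 := congrFun (congrFun hA 1) 1
    have b1 := congrFun (congrFun hB 0) 0
    simp [Matrix.mul_apply, Fin.sum_univ_two] at a1 a2 b1
    have hdet : (p.1.1 : M F).det ≠ 0 := by
      rw [← Matrix.GeneralLinearGroup.val_det_apply]
      exact Units.ne_zero _
    have h00 : (p.1.1 : M F) 0 0 ≠ 0 := by
      intro h0
      apply hdet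
      rw [Matrix.det_fin_two, h0, b1]
      ring
    have h00' : (p.1.1 : M F) 0 0 = 1 := by
      have := units_eq_one hF (Units.mk0 _ h00)
      exact congrArg Units.val this
    ext i j
    fin_cases i <;> fin_cases j
    · exact h00'
    · exact b1
    · exact a2
    · show (p.1.1 : M F) 1 1 = 1
      rw [← a1]; exact h00'
  refine Subtype.ext (Prod.ext (Units.ext h3) (Units.ext ?_))
  rw [← h2, h3]
  rfl

/-- **`PΩ⁺₄(2)`** has a Steinberg character. -/
theorem hasSt_plus_two (hF : Fintype.card F = 2) : HasSt 2 (Cfsg.POmega F (Cfsg.quadFormPlus 2 F)) := by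
  classical
  obtain ⟨e⟩ := Cfsg.Agent.S0250.result hF
  obtain ⟨ε⟩ := exists_isometryGroup_equiv (coord F) (Cfsg.quadFormPlus 2 F) (dt F) coord_det
  obtain ⟨E⟩ := Cfsg.Agent.ClassicalGeometry.OddInvolutions.commutator_quot_center_congr ε
  have hfin : Finite (Cfsg.isometryGroup F (Cfsg.quadFormPlus 2 F)) := inferInstance
  have hfin' : Finite (isom (dt F)) := Finite.of_equiv _ ε.toEquiv
  refine HasSt.of_equiv E ?_
  set C := commutator (isom (dt F)) with hC
  have hCr : C ≤ (psi (F := F)).range := by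
    refine (commutator_le_par hF e).trans ?_
    rintro _ ⟨p, -, rfl⟩
    exact ⟨p, rfl⟩
  let I : Gam F ≃* (psi (F := F)).range := MonoidHom.ofInjective (psi_injective hF)
  let f : C →* Equiv.Perm (Fin 3) := (pr1 hF e).comp (I.symm.toMonoidHom.comp (Subgroup.inclusion hCr))
  have hf : ∀ (x : C) (p : Gam F), psi p = (x : isom (dt F)) → f x = pr1 hF e p := by
    intro x p hp
    show pr1 hF e (I.symm (Subgroup.inclusion hCr x)) = pr1 hF e p
    congr 1
    rw [MulEquiv.symm_apply_eq]
    exact Subtype.ext hp.symm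
  have hsurj : Function.Surjective f := by
    intro s
    let A : SL(2, F) := e.symm s
    let p : Gam F := inc (A, 1)
    have h1 : psi (p * (sw p)⁻¹) ∈ C := by
      have h2 : psi (p * (sw p)⁻¹) = ⁅psi p, tau⁆ := by
        rw [commutatorElement_def, map_mul, map_inv, ← tau_conj]
        group
      rw [h2, hC, commutator_def]
      exact Subgroup.commutator_mem_commutator (Subgroup.mem_top _) (Subgroup.mem_top _)
    refine ⟨⟨_, h1⟩, ?_⟩
    rw [hf _ (p * (sw p)⁻¹) rfl, map_mul, map_inv]
    have h3 : pr1 hF e p = s := by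
      rw [pr1_apply]
      exact e.apply_symm_apply s
    have h4 : pr1 hF e (sw p) = 1 := by
      rw [pr1_apply]
      have : toSL hF (sw p).1.1 = 1 := rfl
      rw [this, map_one]
    rw [h3, h4, inv_one, mul_one]
  have hker : ∀ x ∈ f.ker, x ^ 3 = 1 := by
    intro x hx
    obtain ⟨p, hp, hpx⟩ := commutator_le_par hF e x.2
    rw [MonoidHom.mem_ker, hf x p hpx] at hx
    rw [SetLike.mem_coe, MonoidHom.mem_ker, par_apply, hx, map_one, one_mul] at hp
    have h1 : p ^ 3 = 1 := by
      apply pr_injective hF e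
      · rw [map_pow, hx, one_pow]
      · rw [map_pow, pow_three_of_sign _ hp]
    apply Subtype.ext
    show (x : isom (dt F)) ^ 3 = 1
    rw [← hpx, ← map_pow, h1, map_one]
  -- the quotient by the centre
  have hZ : Subgroup.center C ≤ f.ker := by
    intro z hz
    rw [MonoidHom.mem_ker]
    apply center_perm_three
    intro h
    obtain ⟨x, rfl⟩ := hsurj h
    rw [← map_mul, ← map_mul, Subgroup.mem_center_iff.1 hz x]
  let g : C ⧸ Subgroup.center C →* Equiv.Perm (Fin 3) := QuotientGroup.lift _ f hZ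
  have hg : Function.Surjective g := by
    intro s
    obtain ⟨x, rfl⟩ := hsurj s
    exact ⟨QuotientGroup.mk x, rfl⟩
  refine HasSt.of_surjective g hg ?_ (hasSt_perm_three hF)
  intro hdvd
  obtain ⟨y, hy⟩ := exists_prime_orderOf_dvd_card' 2 hdvd
  obtain ⟨⟨y, hyk⟩, rfl⟩ : ∃ z : g.ker, z = y := ⟨y, rfl⟩
  induction y using QuotientGroup.induction_on with
  | _ x =>
  have h1 : x ^ 3 = 1 := hker x hyk
  have h2 : (⟨(QuotientGroup.mk x : C ⧸ Subgroup.center C), hyk⟩ : g.ker) ^ 3 = 1 := by
    apply Subtype.ext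
    show (QuotientGroup.mk x : C ⧸ Subgroup.center C) ^ 3 = 1
    rw [← QuotientGroup.mk_pow, h1, QuotientGroup.mk_one]
  have h3 := orderOf_dvd_of_pow_eq_one h2
  rw [hy] at h3
  exact absurd h3 (by decide)

end Two

end Cfsg.Agent.H167.SmallOrth
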